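import Mathlib
import Groth.Agent.RegLoc6.Basic
import Groth.Agent.S2821

/-!
# Extending a rational point of a proper scheme over a local domain

If the finitely many pairs of numerators and denominators of the coordinates of a rational point
generate principal ideals in a local domain, the point extends over that domain.
-/

set_option autoImplicit false
set_option linter.style.haveILetI false
set_option backward.isDefEq.respectTransparency false
set_option backward.isDefEq.respectTransparency.types false

universe u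

open CategoryTheory CategoryTheory.Limits AlgebraicGeometry TopologicalSpace IsLocalRing

noncomputable section

namespace Groth.Agent.PointDom

variable {A : Type u} [CommRing A] {Y : Scheme.{u}} (f : Y ⟶ Spec (CommRingCat.of A))

/-- The structure map of the functions on an open. -/
abbrev str (U : Y.Opens) : A →+* Γ(Y, U) :=
  ((Scheme.ΓSpecIso (CommRingCat.of A)).inv ≫ f.appLE ⊤ U le_top).hom

theorem fromSpec_comp (W : Y.affineOpens) : W.2.fromSpec ≫ f = Spec.map (CommRingCat.ofHom (str f W.1)) := by
  rw [← IsAffineOpen.SpecMap_appLE_fromSpec f (isAffineOpen_top (Spec (CommRingCat.of A))) W.2 le_top,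
    IsAffineOpen.fromSpec_top, Scheme.isoSpec_Spec_inv, ← Spec.map_comp]
  rfl

theorem exists_lift {B : Type u} [CommRing B] (W : Y.affineOpens) (h : Spec (CommRingCat.of B) ⟶ Y)
    (hh : Set.range h ⊆ (W.1 : Set Y)) :
    ∃ χ : Γ(Y, W.1) →+* B, h = Spec.map (CommRingCat.ofHom χ) ≫ W.2.fromSpec := by
  haveI := W.2.isOpenImmersion_fromSpec
  let l := IsOpenImmersion.lift W.2.fromSpec h (by rw [W.2.range_fromSpec]; exact hh)
  refine ⟨(Spec.preimage l).hom, ?_⟩
  rw [show CommRingCat.ofHom (Spec.preimage l).hom = Spec.preimage l from rfl, Spec.map_preimage]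
  exact (IsOpenImmersion.lift_fac _ _ _).symm

theorem principal_pair {B : Type u} [CommRing B] [IsDomain B] [IsLocalRing B] {a b : B}
    (h : (Ideal.span {a, b}).IsPrincipal) : b ∣ a ∨ a ∣ b := by
  obtain ⟨c, hc⟩ := h
  change Ideal.span {a, b} = Ideal.span {c} at hc
  obtain ⟨a', ha⟩ := Ideal.mem_span_singleton.1 (hc ▸ Ideal.subset_span (by simp) : a ∈ Ideal.span {c})
  obtain ⟨b', hb⟩ := Ideal.mem_span_singleton.1 (hc ▸ Ideal.subset_span (by simp) : b ∈ Ideal.span {c})
  obtain ⟨r, s, hrs⟩ := Ideal.mem_span_pair.1 (hc ▸ Ideal.mem_span_singleton_self c : c ∈ Ideal.span {a, b})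
  by_cases hc0 : c = 0
  · subst hc0
    left
    rw [ha, hb, zero_mul, zero_mul]
  have h1 : r * a' + s * b' = 1 := by
    refine mul_left_cancel₀ hc0 ?_
    rw [mul_one]
    calc c * (r * a' + s * b') = r * (c * a') + s * (c * b') := by ring
      _ = c := by rw [← ha, ← hb]; exact hrs
  rcases IsLocalRing.isUnit_or_isUnit_of_add_one h1 with hu | hu
  · right
    rw [ha, hb]
    exact mul_dvd_mul_left c ((isUnit_of_mul_isUnit_right hu).dvd)
  · left
    rw [ha, hb]
    exact mul_dvd_mul_left c ((isUnit_of_mul_isUnit_right hu).dvd)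

/-- The coordinates of a rational point on an affine piece, as reduced fractions. -/
theorem exists_pairs_affine [IsDomain A] [UniqueFactorizationMonoid A] [LocallyOfFiniteType f]
    (σ : Spec (CommRingCat.of (FractionRing A)) ⟶ Y)
    (hσ : σ ≫ f = Spec.map (CommRingCat.ofHom (algebraMap A (FractionRing A)))) (W : Y.affineOpens)
    (hW : Set.range σ ⊆ (W.1 : Set Y)) :
    ∃ (G : Finset Γ(Y, W.1)) (φ : Γ(Y, W.1) →+* FractionRing A) (num den : Γ(Y, W.1) → A),
      σ = Spec.map (CommRingCat.ofHom φ) ≫ W.2.fromSpec ∧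
      φ.comp (str f W.1) = algebraMap A (FractionRing A) ∧
      Subring.closure (Set.range (str f W.1) ∪ ↑G) = ⊤ ∧
      ∀ g, den g ≠ 0 ∧ IsRelPrime (num g) (den g) ∧
        φ g * algebraMap A (FractionRing A) (den g) = algebraMap A (FractionRing A) (num g) := by
  obtain ⟨φ, hφ⟩ := exists_lift W σ hW
  have hφA : φ.comp (str f W.1) = algebraMap A (FractionRing A) := by
    have h := hσ
    rw [hφ, Category.assoc, fromSpec_comp, ← Spec.map_comp] at h
    exact congrArg CommRingCat.Hom.hom (Spec.map_injective h)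
  have hft : (str f W.1).FiniteType := by
    refine RingHom.FiniteType.comp (f.finiteType_appLE (isAffineOpen_top _) W.2 le_top) ?_
    exact RingHom.FiniteType.of_surjective _ (ConcreteCategory.bijective_of_isIso
      (Scheme.ΓSpecIso (CommRingCat.of A)).inv).2
  obtain ⟨G, hG⟩ : ∃ G : Finset Γ(Y, W.1), Subring.closure (Set.range (str f W.1) ∪ ↑G) = ⊤ := by
    letI := (str f W.1).toAlgebra
    obtain ⟨G, hG⟩ := (show Algebra.FiniteType A Γ(Y, W.1) from hft).1
    refine ⟨G, ?_⟩
    show Subring.closure (Set.range (algebraMap A Γ(Y, W.1)) ∪ ↑G) = ⊤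
    rw [← Algebra.adjoin_eq_ring_closure, hG]
    rfl
  choose num den hrp hnd using fun g => IsFractionRing.exists_reduced_fraction (A := A) (φ g)
  refine ⟨G, φ, num, fun g => den g, hφ, hφA, hG, fun g => ⟨nonZeroDivisors.ne_zero (den g).2, hrp g, ?_⟩⟩
  rw [← hnd g, IsLocalization.mk'_spec]

theorem exists_hom_of_principal [IsDomain A] {B : Type u} [CommRing B] [IsDomain B] [IsLocalRing B]
    (ψ : A →+* B) (hψ : Function.Injective ψ) (W : Y.affineOpens)
    (G : Finset Γ(Y, W.1)) (φ : Γ(Y, W.1) →+* FractionRing A) (num den : Γ(Y, W.1) → A)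
    (hφA : φ.comp (str f W.1) = algebraMap A (FractionRing A))
    (hG : Subring.closure (Set.range (str f W.1) ∪ ↑G) = ⊤)
    (hnd : ∀ g, den g ≠ 0 ∧ φ g * algebraMap A (FractionRing A) (den g) = algebraMap A (FractionRing A) (num g))
    (hprin : ∀ g ∈ G, (Ideal.span {ψ (num g), ψ (den g)}).IsPrincipal)
    (ι : FractionRing A →+* FractionRing B)
    (hι : ι.comp (algebraMap A (FractionRing A)) = (algebraMap B (FractionRing B)).comp ψ)
    (V : ValuationSubring (FractionRing B)) (hVm : ∀ β : B, ¬ IsUnit β → ∃ h, ¬ IsUnit (⟨algebraMap B (FractionRing B) β, h⟩ : V))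
    (hGV : ∀ g ∈ G, ι (φ g) ∈ V) :
    ∃ h : Spec (CommRingCat.of B) ⟶ Y, h ≫ f = Spec.map (CommRingCat.ofHom ψ) := by
  let ξ := algebraMap B (FractionRing B)
  have hmem : ∀ x : Γ(Y, W.1), ∃ β : B, ξ β = ι (φ x) := by
    intro x
    have hle : Subring.closure (Set.range (str f W.1) ∪ ↑G) ≤ ξ.range.comap (ι.comp φ) := by
      rw [Subring.closure_le]
      rintro y (⟨a, rfl⟩ | hy)
      · exact ⟨ψ a, by
          show ξ (ψ a) = ι (φ (str f W.1 a))
          rw [show φ (str f W.1 a) = algebraMap A (FractionRing A) a from RingHom.congr_fun hφA a]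
          exact (RingHom.congr_fun hι a).symm⟩
      · show ∃ β, ξ β = ι (φ y)
        obtain ⟨hden, heq⟩ := hnd y
        have hξd : ξ (ψ (den y)) ≠ 0 := fun h =>
          hden (hψ (IsFractionRing.injective B (FractionRing B) (h.trans (map_zero ξ).symm) |>.trans (map_zero ψ).symm))
        have heq' : ι (φ y) * ξ (ψ (den y)) = ξ (ψ (num y)) := by
          have := congrArg ι heq
          rw [map_mul] at this
          rw [show ξ (ψ (den y)) = ι (algebraMap A (FractionRing A) (den y)) from (RingHom.congr_fun hι _).symm,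
            show ξ (ψ (num y)) = ι (algebraMap A (FractionRing A) (num y)) from (RingHom.congr_fun hι _).symm]
          exact this
        rcases principal_pair (hprin y hy) with ⟨c, hc⟩ | ⟨c, hc⟩
        · refine ⟨c, mul_right_cancel₀ hξd ?_⟩
          rw [heq', hc, map_mul, mul_comm]
        · by_cases hc' : IsUnit c
          · obtain ⟨u, rfl⟩ := hc'
            refine ⟨↑u⁻¹, mul_right_cancel₀ hξd ?_⟩
            rw [heq', ← map_mul, hc]
            congr 1
            rw [mul_comm (ψ (num y)), ← mul_assoc, Units.inv_mul, one_mul]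
          · exfalso
            obtain ⟨hmem, hnu⟩ := hVm c hc'
            refine hnu (IsUnit.of_mul_eq_one ⟨ι (φ y), hGV y hy⟩ (Subtype.ext ?_))
            show ξ c * ι (φ y) = 1
            refine mul_right_cancel₀ hξd ?_
            rw [mul_assoc, heq', one_mul, ← map_mul, hc, mul_comm]
    obtain ⟨β, hβ⟩ := hle (hG.symm ▸ Subring.mem_top x)
    exact ⟨β, hβ⟩
  choose χ hχ using hmem
  have hinj : Function.Injective ξ := IsFractionRing.injective B (FractionRing B)
  let χ' : Γ(Y, W.1) →+* B :=
    { toFun := χ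
      map_one' := hinj (by rw [hχ, map_one, map_one, map_one])
      map_mul' := fun x y => hinj (by rw [map_mul ξ, hχ, hχ, hχ, map_mul, map_mul])
      map_zero' := hinj (by rw [hχ, map_zero, map_zero, map_zero])
      map_add' := fun x y => hinj (by rw [map_add ξ, hχ, hχ, hχ, map_add, map_add]) }
  refine ⟨Spec.map (CommRingCat.ofHom χ') ≫ W.2.fromSpec, ?_⟩
  rw [Category.assoc, fromSpec_comp, ← Spec.map_comp]
  congr 1
  refine CommRingCat.hom_ext (RingHom.ext fun a => hinj ?_)
  show ξ (χ (str f W.1 a)) = ξ (ψ a)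
  rw [hχ, show φ (str f W.1 a) = algebraMap A (FractionRing A) a from RingHom.congr_fun hφA a]
  exact RingHom.congr_fun hι a

/-- Coprime pairs in a two-dimensional regular local ring generate ideals of finite colength. -/
theorem pow_le_span_pair [IsRegularLocalRing A] (hA : ringKrullDim A = 2) {a b : A} (hb : b ≠ 0)
    (h : IsRelPrime a b) : ∃ n : ℕ, maximalIdeal A ^ n ≤ Ideal.span {a, b} := by
  haveI := (S2821.result A).1
  haveI := (S2821.result A).2
  refine Ideal.exists_pow_le_of_le_radical_of_fg ?_ (IsNoetherian.noetherian (maximalIdeal A))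
  rw [Ideal.radical_eq_sInf]
  refine le_sInf fun P hP => ?_
  haveI := hP.2
  by_contra hne
  have hlt : P < maximalIdeal A := lt_of_le_of_ne (le_maximalIdeal hP.2.ne_top) fun h => hne h.ge
  have hP0 : P ≠ ⊥ := fun h0 => hb (by
    have := hP.1 (Ideal.subset_span (show b ∈ ({a, b} : Set A) by simp))
    rwa [h0] at this)
  obtain ⟨π, hπP, hπ⟩ := hP.2.exists_mem_prime_of_ne_bot hP0
  haveI := (Ideal.span_singleton_prime hπ.ne_zero).2 hπ
  have hle : Ideal.span {π} ≤ P := (Ideal.span_singleton_le_iff_mem _).2 hπP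
  have heq : Ideal.span {π} = P := by
    by_contra hneq
    have h1 : Ideal.span {π} < P := lt_of_le_of_ne hle hneq
    have e1 := Ideal.height_strict_mono_of_isPrime h1
    have e2 := Ideal.height_strict_mono_of_isPrime hlt
    have hm : (maximalIdeal A).height = 2 := by
      have := IsLocalRing.maximalIdeal_height_eq_ringKrullDim (R := A)
      rw [hA] at this
      exact WithBot.coe_eq_coe.1 (this.trans (by rfl))
    rw [hm] at e2
    have h0 : 1 ≤ (Ideal.span {π}).height := Order.one_le_iff_ne_zero.2 fun h0 => by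
      have hmin : Ideal.span {π} ∈ minimalPrimes A := by
        rw [← Ideal.height_eq_zero_iff]; exact h0
      rw [IsDomain.minimalPrimes_eq_singleton_bot] at hmin
      exact hπ.ne_zero (Ideal.span_singleton_eq_bot.1 hmin)
    have h2 : (Ideal.span {π}).height + 1 ≤ P.height := Order.add_one_le_of_lt e1
    have h3 : (2 : ℕ∞) ≤ P.height := le_trans (by exact le_trans le_rfl (add_le_add h0 le_rfl)) h2
    exact absurd (h3.trans_lt e2) (lt_irrefl _)
  have hπa : π ∣ a := Ideal.mem_span_singleton.1 (heq ▸ hP.1 (Ideal.subset_span (by simp)))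
  have hπb : π ∣ b := Ideal.mem_span_singleton.1 (heq ▸ hP.1 (Ideal.subset_span (by simp)))
  exact hπ.not_isUnit (h hπa hπb)

end Groth.Agent.PointDom
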