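import Mathlib
import Groth.Agent.PointDom.Core

/-!
# The ideals which have to be made invertible
-/

set_option autoImplicit false
set_option linter.style.haveILetI false
set_option backward.isDefEq.respectTransparency false
set_option backward.isDefEq.respectTransparency.types false
set_option maxHeartbeats 400000

universe u

open CategoryTheory CategoryTheory.Limits AlgebraicGeometry TopologicalSpace IsLocalRing

noncomputable section

namespace Groth.Agent.PointDom

variable {A : Type u} [CommRing A] {Y : Scheme.{u}} (f : Y ⟶ Spec (CommRingCat.of A))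

theorem exists_ext [IsDomain A] (L : Type u) [Field L] (j : A →+* L) (hj : Function.Injective j) :
    ∃ ι : FractionRing A →+* L, ι.comp (algebraMap A (FractionRing A)) = j :=
  ⟨IsFractionRing.lift hj, RingHom.ext fun a => IsFractionRing.lift_algebraMap hj a⟩

/-- A rational point extends over a valuation ring. -/
theorem exists_lift_valuation [IsDomain A] [IsProper f] (σ : Spec (CommRingCat.of (FractionRing A)) ⟶ Y)
    (hσ : σ ≫ f = Spec.map (CommRingCat.ofHom (algebraMap A (FractionRing A))))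
    (L : Type u) [Field L] (V : ValuationSubring L) (ι : FractionRing A →+* L) (ρ : A →+* V)
    (hρ : (algebraMap V L).comp ρ = ι.comp (algebraMap A (FractionRing A))) :
    ∃ l : Spec (CommRingCat.of V) ⟶ Y,
      Spec.map (CommRingCat.ofHom (algebraMap V L)) ≫ l = Spec.map (CommRingCat.ofHom ι) ≫ σ := by
  have hex : ValuativeCriterion.Existence f :=
    (UniversallyClosed.eq_valuativeCriterion.le _ _ f (inferInstance : UniversallyClosed f)).1
  have hsq : CommSq (Spec.map (CommRingCat.ofHom ι) ≫ σ) (Spec.map (CommRingCat.ofHom (algebraMap V L))) f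
      (Spec.map (CommRingCat.ofHom ρ)) := ⟨by
    rw [Category.assoc, hσ, ← Spec.map_comp, ← Spec.map_comp]
    congr 1
    exact CommRingCat.hom_ext hρ.symm⟩
  obtain ⟨⟨l, hl1, hl2⟩⟩ := (hex ⟨V, L, _, _, hsq⟩).exists_lift
  exact ⟨l, hl1⟩

theorem range_subset_of_lift [IsDomain A] (σ : Spec (CommRingCat.of (FractionRing A)) ⟶ Y)
    (L : Type u) [Field L] (V : ValuationSubring L) (ι : FractionRing A →+* L)
    (l : Spec (CommRingCat.of V) ⟶ Y)
    (hl : Spec.map (CommRingCat.ofHom (algebraMap V L)) ≫ l = Spec.map (CommRingCat.ofHom ι) ≫ σ)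
    (W : Y.Opens) (hW : l (closedPoint V) ∈ W) :
    Set.range l ⊆ (W : Set Y) ∧ Set.range σ ⊆ (W : Set Y) := by
  have hrange : Set.range l ⊆ (W : Set Y) := by
    rintro _ ⟨t, rfl⟩
    exact ((IsLocalRing.specializes_closedPoint (R := V) t).map l.continuous).mem_open W.2 hW
  refine ⟨hrange, ?_⟩
  rintro _ ⟨t, rfl⟩
  let s : ↥(Spec (CommRingCat.of L)) := closedPoint L
  have h : σ ((Spec.map (CommRingCat.ofHom ι)) s) ∈ (W : Set Y) := by
    rw [← Scheme.Hom.comp_apply, ← hl, Scheme.Hom.comp_apply]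
    exact hrange ⟨_, rfl⟩
  haveI : Subsingleton ↥(Spec (CommRingCat.of (FractionRing A))) :=
    inferInstanceAs (Subsingleton (PrimeSpectrum (FractionRing A)))
  rwa [Subsingleton.elim ((Spec.map (CommRingCat.ofHom ι)) s) t] at h

theorem coords_of_lift [IsDomain A] (σ : Spec (CommRingCat.of (FractionRing A)) ⟶ Y)
    (L : Type u) [Field L] (V : ValuationSubring L) (ι : FractionRing A →+* L)
    (l : Spec (CommRingCat.of V) ⟶ Y)
    (hl : Spec.map (CommRingCat.ofHom (algebraMap V L)) ≫ l = Spec.map (CommRingCat.ofHom ι) ≫ σ)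
    (W : Y.affineOpens) (hW : Set.range l ⊆ (W.1 : Set Y)) (φ : Γ(Y, W.1) →+* FractionRing A)
    (hφ : σ = Spec.map (CommRingCat.ofHom φ) ≫ W.2.fromSpec) (g : Γ(Y, W.1)) : ι (φ g) ∈ V := by
  obtain ⟨χ, hχ⟩ := exists_lift W l hW
  rw [hφ, hχ] at hl
  simp only [← Category.assoc, ← Spec.map_comp] at hl
  haveI := W.2.isOpenImmersion_fromSpec
  have h := congrArg CommRingCat.Hom.hom (Spec.map_injective ((cancel_mono W.2.fromSpec).1 hl))
  rw [show ι (φ g) = algebraMap V L (χ g) from (RingHom.congr_fun h g).symm]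
  exact (χ g).2

/-- The finitely many ideals whose invertibility extends a rational point. -/
theorem exists_pairs [IsDomain A] [UniqueFactorizationMonoid A] [IsProper f]
    (σ : Spec (CommRingCat.of (FractionRing A)) ⟶ Y)
    (hσ : σ ≫ f = Spec.map (CommRingCat.ofHom (algebraMap A (FractionRing A)))) :
    ∃ P : Finset (A × A), (∀ p ∈ P, p.2 ≠ 0 ∧ IsRelPrime p.1 p.2) ∧
      ∀ (B : Type u) [CommRing B] [IsDomain B] [IsLocalRing B] (ψ : A →+* B), Function.Injective ψ →
        (∀ p ∈ P, (Ideal.span {ψ p.1, ψ p.2}).IsPrincipal) →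
        ∃ h : Spec (CommRingCat.of B) ⟶ Y, h ≫ f = Spec.map (CommRingCat.ofHom ψ) := by
  classical
  haveI : CompactSpace Y := QuasiCompact.compactSpace_of_compactSpace f
  obtain ⟨T, hT⟩ := isCompact_univ.elim_finite_subcover (fun W : Y.affineOpens => (W.1 : Set Y))
    (fun W => W.1.2) (fun y _ => by
      obtain ⟨_, ⟨W, hW, rfl⟩, hyW, -⟩ := Y.isBasis_affineOpens.exists_subset_of_mem_open (Set.mem_univ y) isOpen_univ
      exact Set.mem_iUnion.2 ⟨⟨W, hW⟩, hyW⟩)
  choose G φ num den h1 h2 h3 h4 using fun W : {W : Y.affineOpens // W ∈ T ∧ Set.range σ ⊆ (W.1 : Set Y)} =>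
    exists_pairs_affine f σ hσ W.1 W.2.2
  haveI : Fintype {W : Y.affineOpens // W ∈ T ∧ Set.range σ ⊆ (W.1 : Set Y)} :=
    Fintype.subtype (T.filter fun W => Set.range σ ⊆ (W.1 : Set Y)) (fun W => by simp)
  refine ⟨Finset.univ.biUnion fun W => (G W).image fun g => (num W g, den W g), ?_, ?_⟩
  · intro p hp
    obtain ⟨W, -, hp⟩ := Finset.mem_biUnion.1 hp
    obtain ⟨g, -, rfl⟩ := Finset.mem_image.1 hp
    exact ⟨(h4 W g).1, (h4 W g).2.1⟩
  intro B _ _ _ ψ hψ hprin
  obtain ⟨V, hV, hVl⟩ : ∃ V : ValuationSubring (FractionRing B), ∃ hξV : ∀ β, algebraMap B (FractionRing B) β ∈ V,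
      IsLocalHom ((algebraMap B (FractionRing B)).codRestrict V.toSubring hξV) := by
    obtain ⟨V, hV⟩ := (LocalSubring.range (algebraMap B (FractionRing B))).exists_le_valuationSubring
    exact ⟨V, fun β => hV.1 ⟨β, rfl⟩,
      @RingHom.isLocalHom_comp _ _ _ _ _ _ _ _ hV.2 (.of_surjective _ (algebraMap B (FractionRing B)).rangeRestrict_surjective)⟩
  have hcomp : Function.Injective ((algebraMap B (FractionRing B)).comp ψ) :=
    (IsFractionRing.injective B (FractionRing B)).comp hψ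
  obtain ⟨ι, hι⟩ := exists_ext (FractionRing B) ((algebraMap B (FractionRing B)).comp ψ) hcomp
  obtain ⟨l, hl⟩ := exists_lift_valuation f σ hσ (FractionRing B) V ι
    (((algebraMap B (FractionRing B)).codRestrict V.toSubring hV).comp ψ) hι.symm
  obtain ⟨W, hWT, hW⟩ := Set.mem_iUnion₂.1 (hT (Set.mem_univ (l (closedPoint V))))
  obtain ⟨hr, hrσ⟩ := range_subset_of_lift σ (FractionRing B) V _ l hl W.1 hW
  refine exists_hom_of_principal f ψ hψ W (G ⟨W, hWT, hrσ⟩) (φ ⟨W, hWT, hrσ⟩) (num ⟨W, hWT, hrσ⟩) (den ⟨W, hWT, hrσ⟩)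
    (h2 ⟨W, hWT, hrσ⟩) (h3 ⟨W, hWT, hrσ⟩) (fun g => ⟨(h4 ⟨W, hWT, hrσ⟩ g).1, (h4 ⟨W, hWT, hrσ⟩ g).2.2⟩)
    (fun g hg => hprin (num ⟨W, hWT, hrσ⟩ g, den ⟨W, hWT, hrσ⟩ g)
      (Finset.mem_biUnion.2 ⟨⟨W, hWT, hrσ⟩, Finset.mem_univ _, Finset.mem_image_of_mem _ hg⟩))
    ι hι V (fun β hβ => ⟨hV β, fun hu => hβ (hVl.map_nonunit β hu)⟩)
    fun g _ => coords_of_lift σ (FractionRing B) V _ l hl W hr _ (h1 ⟨W, hWT, hrσ⟩) g

end Groth.Agent.PointDom
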