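import Mathlib
import Groth.Agent.PointBlow.Main
import Groth.Agent.PointDom.Pairs
import Groth.Agent.BlowUpX.Basic
import Groth.Agent.H23.StalkPrimes
import Groth.Agent.ModPairLib.Dense
import Groth.Agent.S2299

/-!
# Dominating a modification by point blow-ups
-/

set_option autoImplicit false
set_option linter.style.haveILetI false
set_option linter.unusedSectionVars false
set_option backward.isDefEq.respectTransparency false
set_option backward.isDefEq.respectTransparency.types false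
set_option maxHeartbeats 800000

universe u

open CategoryTheory CategoryTheory.Limits AlgebraicGeometry TopologicalSpace IsLocalRing
open Groth.Agent.H23.StalkIdeal

noncomputable section

namespace Groth.Agent.PointDom

open PointBlow

variable {X : Scheme.{u}}

theorem isProper_of_seq {Y : Scheme.{u}} {r : Y ⟶ X} (h : Models.IsContractionSeq r) : IsProper r := by
  induction h with
  | iso e => infer_instance
  | step ι b r hι hE hb hr ih =>
    haveI := ih
    haveI := hb.2.1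
    infer_instance

/-- An ideal of finite colength at a closed point extends to the scheme. -/
theorem exists_extend [IsLocallyNoetherian X] {x : X} (hx : IsClosed ({x} : Set X))
    (J : Ideal (X.presheaf.stalk x)) {n : ℕ} (hn : maximalIdeal (X.presheaf.stalk x) ^ n ≤ J) :
    ∃ E : X.IdealSheafData, (E.support : Set X) ⊆ {x} ∧ sI E x = J := by
  let j := X.fromSpecStalk x
  let K := BlowUpLib.centre J
  let ι := K.subschemeι ≫ j
  haveI : Flat j := H23.RatExtend.flat_fromSpecStalk X x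
  haveI : IsPreimmersion ι := inferInstance
  have hclp : ∀ z, z ∈ (K.support : Set ↥(Spec (X.presheaf.stalk x))) → z = closedPoint (X.presheaf.stalk x) := by
    intro z hz
    rw [show (K.support : Set ↥(Spec (X.presheaf.stalk x))) = _ from Scheme.IdealSheafData.coe_support_ofIdealTop _,
      Spec_zeroLocus] at hz
    refine PrimeSpectrum.ext (le_antisymm (le_maximalIdeal z.2.ne_top) (z.2.le_of_pow_le (hn.trans ?_)))
    intro a ha
    exact hz (show a ∈ _ from Ideal.mem_map_of_mem _ ha)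
  have hrange : Set.range ι ⊆ {x} := by
    rintro _ ⟨w, rfl⟩
    rw [Scheme.Hom.comp_apply, hclp (K.subschemeι w) (by rw [← Scheme.IdealSheafData.range_subschemeι]; exact ⟨w, rfl⟩),
      Set.mem_singleton_iff]
    exact Scheme.fromSpecStalk_closedPoint
  have hcl : IsClosed (Set.range ι) := by
    rcases Set.subset_singleton_iff_eq.1 hrange with h | h <;> rw [h]
    · exact isClosed_empty
    · exact hx
  haveI : IsClosedImmersion ι := IsClosedImmersion.of_isPreimmersion ι hcl
  have hsupp : (ι.ker.support : Set X) = Set.range ι := by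
    rw [Scheme.Hom.support_ker]; exact hcl.closure_eq
  refine ⟨ι.ker, hsupp ▸ hrange, ?_⟩
  have hcomap : ι.ker.comap j = K := by
    refine ext_sI fun z => ?_
    by_cases hz : z ∈ (K.support : Set ↥(Spec (X.presheaf.stalk x)))
    · obtain ⟨w, rfl⟩ : z ∈ Set.range K.subschemeι := by rw [Scheme.IdealSheafData.range_subschemeι]; exact hz
      haveI := H23.FFDescent.isIso_stalkMap_of_flat_of_isPreimmersion j (K.subschemeι w)
      let e := (asIso (j.stalkMap (K.subschemeι w))).commRingCatIsoToRingEquiv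
      have h2 : RingHom.ker (ι.stalkMap w).hom = (sI K (K.subschemeι w)).comap e.toRingHom := by
        rw [Scheme.Hom.stalkMap_comp, CommRingCat.hom_comp, ← RingHom.comap_ker, ker_stalkMap]
        rfl
      rw [sI_comap]
      show (sI ι.ker (ι w)).map e.toRingHom = sI K (K.subschemeι w)
      rw [← ker_stalkMap_closed ι w, h2]
      exact Ideal.map_comap_of_surjective _ e.surjective _
    · rw [sI_eq_top hz, sI_eq_top]
      rw [Scheme.IdealSheafData.support_comap]
      show j z ∉ (ι.ker.support : Set X)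
      rw [hsupp]
      rintro ⟨w, hw⟩
      refine hz ?_
      rw [← j.isEmbedding.injective hw, ← Scheme.IdealSheafData.range_subschemeι]
      exact ⟨w, rfl⟩
  exact (congrArg tI hcomap).trans (tI_centre J)

theorem comap_prod {ι : Type*} [DecidableEq ι] {X' : Scheme.{u}} (g : X' ⟶ X) (s : Finset ι)
    (E : ι → X.IdealSheafData) : (∏ i ∈ s, E i).comap g = ∏ i ∈ s, (E i).comap g := by
  induction s using Finset.induction with
  | empty => rw [Finset.prod_empty, Finset.prod_empty, Scheme.IdealSheafData.one_eq_top, Scheme.IdealSheafData.comap_top]; rfl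
  | insert a t ha ih => rw [Finset.prod_insert ha, Finset.prod_insert ha, ModPairLib.ideal_comap_mul, ih]

theorem support_prod_subset {ι : Type*} [DecidableEq ι] (s : Finset ι) (E : ι → X.IdealSheafData) (T : Set X)
    (h : ∀ i ∈ s, ((E i).support : Set X) ⊆ T) : ((∏ i ∈ s, E i).support : Set X) ⊆ T := by
  intro z hz
  by_contra hzT
  refine (mem_support_iff _ z).1 hz ?_
  clear hz
  induction s using Finset.induction with
  | empty => rw [Finset.prod_empty, Scheme.IdealSheafData.one_eq_top, sI_top]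
  | insert a t ha ih =>
    rw [Finset.prod_insert ha, sI_mul, sI_eq_top fun hz => hzT (h a (Finset.mem_insert_self a t) hz),
      ih fun i hi => h i (Finset.mem_insert_of_mem hi), Ideal.mul_top]

/-- The rational point of a modification at a point of the centre. -/
theorem exists_rational_point {Y : Scheme.{u}} (f : Y ⟶ X) (U : X.Opens) [IsIso (f ∣_ U)] (x : X)
    [IsDomain (X.presheaf.stalk x)]
    (hU : X.fromSpecStalk x (⟨⊥, Ideal.bot_prime⟩ : PrimeSpectrum (X.presheaf.stalk x)) ∈ U) :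
    ∃ σ : Spec (CommRingCat.of (FractionRing (X.presheaf.stalk x))) ⟶ pullback f (X.fromSpecStalk x),
      σ ≫ pullback.snd f (X.fromSpecStalk x) =
        Spec.map (CommRingCat.ofHom (algebraMap (X.presheaf.stalk x) (FractionRing (X.presheaf.stalk x)))) := by
  let A := X.presheaf.stalk x
  let q : Spec (CommRingCat.of (FractionRing A)) ⟶ Spec A := Spec.map (CommRingCat.ofHom (algebraMap A (FractionRing A)))
  have hr : Set.range (q ≫ X.fromSpecStalk x) ⊆ Set.range U.ι := by
    rintro _ ⟨t, rfl⟩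
    rw [Scheme.Opens.range_ι]
    show X.fromSpecStalk x (PrimeSpectrum.comap (algebraMap A (FractionRing A)) t) ∈ U
    rwa [show PrimeSpectrum.comap (algebraMap A (FractionRing A)) t = (⟨⊥, Ideal.bot_prime⟩ : PrimeSpectrum A) from ?_]
    refine PrimeSpectrum.ext ?_
    show t.asIdeal.comap (algebraMap A (FractionRing A)) = ⊥
    rw [(Ideal.eq_bot_or_top t.asIdeal).resolve_right t.2.ne_top]
    exact (RingHom.injective_iff_ker_eq_bot _).1 (IsFractionRing.injective A (FractionRing A))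
  let l := IsOpenImmersion.lift U.ι (q ≫ X.fromSpecStalk x) hr
  refine ⟨pullback.lift (l ≫ inv (f ∣_ U) ≫ (f ⁻¹ᵁ U).ι) q ?_, pullback.lift_snd _ _ _⟩
  rw [Category.assoc, Category.assoc, ← morphismRestrict_ι, IsIso.inv_hom_id_assoc, IsOpenImmersion.lift_fac]

theorem extend_point [IsLocallyNoetherian X] {Y : Scheme.{u}} (f : Y ⟶ X) [LocallyOfFiniteType f]
    {X' : Scheme.{u}} [IsLocallyNoetherian X'] (g : X' ⟶ X) (x' : X')
    (h : Spec (X'.presheaf.stalk x') ⟶ pullback f (X.fromSpecStalk (g x')))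
    (hh : h ≫ pullback.snd _ _ = Spec.map (g.stalkMap x')) :
    ∃ (V : X'.Opens) (k : (V : Scheme.{u}) ⟶ Y), x' ∈ V ∧ k ≫ f = V.ι ≫ g := by
  have hk : (h ≫ pullback.fst _ _) ≫ f = X'.fromSpecStalk x' ≫ g := by
    rw [Category.assoc, pullback.condition, ← Category.assoc, hh, Scheme.SpecMap_stalkMap_fromSpecStalk]
  obtain ⟨V, hxV, k, -, hk'⟩ := spread_out_of_isGermInjective' g f (h ≫ pullback.fst _ _) hk
  exact ⟨V, k, hxV, hk'⟩

theorem injective_stalkMap {X' : Scheme.{u}} (g : X' ⟶ X) (U : X.Opens) [IsIso (g ∣_ U)] (x' : X')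
    [IsDomain (X.presheaf.stalk (g x'))] (y : X') (hy : y ⤳ x') (hyU : g y ∈ U) :
    Function.Injective (g.stalkMap x') := by
  have hsp : g y ⤳ g x' := hy.map g.continuous
  haveI : IsOpenImmersion ((g ⁻¹ᵁ U).ι ≫ g) := by
    rw [← morphismRestrict_ι]; infer_instance
  have h1 : IsIso (((g ⁻¹ᵁ U).ι ≫ g).stalkMap ⟨y, hyU⟩) := inferInstance
  rw [Scheme.Hom.stalkMap_comp] at h1
  haveI : IsIso (g.stalkMap y) :=
    @IsIso.of_isIso_comp_right _ _ _ _ _ (g.stalkMap y) ((g ⁻¹ᵁ U).ι.stalkMap ⟨y, hyU⟩) inferInstance h1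
  have hinj : Function.Injective (X.presheaf.stalkSpecializes hsp).hom := by
    letI := (X.presheaf.stalkSpecializes hsp).hom.toAlgebra
    haveI := H23.StalkPrimes.isLocalization_primeOf hsp
    exact IsLocalization.injective _ (CDiv6.primeOf hsp).asIdeal.primeCompl_le_nonZeroDivisors
  have hcomm := Scheme.Hom.stalkSpecializes_stalkMap g y x' hy
  intro a c hac
  refine hinj ((ConcreteCategory.bijective_of_isIso (g.stalkMap y)).1 ?_)
  have ha := congrArg (fun φ : X.presheaf.stalk (g x') ⟶ X'.presheaf.stalk y => φ.hom a) hcomm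
  have hc := congrArg (fun φ : X.presheaf.stalk (g x') ⟶ X'.presheaf.stalk y => φ.hom c) hcomm
  simp only [CommRingCat.hom_comp, RingHom.comp_apply] at ha hc
  exact ha.trans ((congrArg _ hac).trans hc.symm)

/-- Off the preimage of the centre the generic point of a point with domain local ring. -/
theorem exists_generic {X' : Scheme.{u}} (g : X' ⟶ X) (T : Set X) (hTf : T.Finite)
    (x' : X') [IsDomain (X'.presheaf.stalk x')] (D : X → X.IdealSheafData)
    (hD : ∀ t ∈ T, t ∈ ((D t).support : Set X) ∧ BlowUp.IsEffCartierIdeal ((D t).comap g)) :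
    ∃ y : X', y ⤳ x' ∧ g y ∉ T := by
  refine ⟨X'.fromSpecStalk x' (⟨⊥, Ideal.bot_prime⟩ : PrimeSpectrum (X'.presheaf.stalk x')), ?_, fun hT => ?_⟩
  · have h : X'.fromSpecStalk x' (⟨⊥, Ideal.bot_prime⟩ : PrimeSpectrum (X'.presheaf.stalk x')) ∈
        Set.range (X'.fromSpecStalk x') := ⟨_, rfl⟩
    rwa [Scheme.range_fromSpecStalk] at h
  · set y := X'.fromSpecStalk x' (⟨⊥, Ideal.bot_prime⟩ : PrimeSpectrum (X'.presheaf.stalk x'))
    obtain ⟨hmem, hcar⟩ := hD _ hT
    have hy : y ∈ (((D (g y)).comap g).support : Set X') := by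
      rw [Scheme.IdealSheafData.support_comap]; exact hmem
    obtain ⟨γ, hγ, hγD⟩ := exists_gen hcar x'
    refine (mem_support_iff _ _).1 hy ?_
    have h1 := congrArg (Ideal.map ((X'.fromSpecStalk x').stalkMap
      (⟨⊥, Ideal.bot_prime⟩ : PrimeSpectrum (X'.presheaf.stalk x'))).hom) (rfl : sI ((D (g y)).comap g) y = sI ((D (g y)).comap g) y)
    rw [← sI_comap] at h1
    haveI : Flat (X'.fromSpecStalk x') := H23.RatExtend.flat_fromSpecStalk X' x'
    haveI := H23.FFDescent.isIso_stalkMap_of_flat_of_isPreimmersion (X'.fromSpecStalk x')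
      (⟨⊥, Ideal.bot_prime⟩ : PrimeSpectrum (X'.presheaf.stalk x'))
    have h2 : sI (((D (g y)).comap g).comap (X'.fromSpecStalk x'))
        (⟨⊥, Ideal.bot_prime⟩ : PrimeSpectrum (X'.presheaf.stalk x')) = ⊤ := by
      refine sI_eq_top fun hmem' => ?_
      rw [eq_centre (((D (g y)).comap g).comap (X'.fromSpecStalk x'))] at hmem'
      rw [show tI (((D (g y)).comap g).comap (X'.fromSpecStalk x')) = sI ((D (g y)).comap g) x' from rfl, hγD,
        show ((BlowUpLib.centre (Ideal.span {γ})).support : Set ↥(Spec (X'.presheaf.stalk x'))) = _ from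
          Scheme.IdealSheafData.coe_support_ofIdealTop _, Spec_zeroLocus] at hmem'
      have h3 := hmem' (show γ ∈ _ from Ideal.mem_map_of_mem _ (Ideal.mem_span_singleton_self γ))
      exact nonZeroDivisors.ne_zero hγ (Ideal.mem_bot.1 h3)
    rw [sI_comap] at h2
    have h4 := congrArg (Ideal.comap ((X'.fromSpecStalk x').stalkMap
      (⟨⊥, Ideal.bot_prime⟩ : PrimeSpectrum (X'.presheaf.stalk x'))).hom) h2
    rwa [Ideal.comap_map_of_bijective _ (ConcreteCategory.bijective_of_isIso _), Ideal.comap_top] at h4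

/-- Morphisms to a modification glue. -/
theorem exists_glue {Y : Scheme.{u}} (f : Y ⟶ X) [IsSeparated f] (U : X.Opens) [IsIso (f ∣_ U)]
    {X' : Scheme.{u}} (g : X' ⟶ X) [IsSchemeTheoreticallyDominant (g ⁻¹ᵁ U).ι] [QuasiCompact (g ⁻¹ᵁ U).ι]
    (hloc : ∀ x' : X', ∃ (V : X'.Opens) (k : (V : Scheme.{u}) ⟶ Y), x' ∈ V ∧ k ≫ f = V.ι ≫ g) :
    ∃ h : X' ⟶ Y, h ≫ f = g := by
  choose V k hV hk using hloc
  let 𝒰 := X'.openCoverOfIsOpenCover V (eq_top_iff.2 fun z _ => Opens.mem_iSup.2 ⟨z, hV z⟩)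
  have hmono : Mono ((f ⁻¹ᵁ U).ι ≫ f) := by
    rw [← morphismRestrict_ι]; infer_instance
  refine ⟨𝒰.glueMorphisms k fun a c => ?_, Scheme.Cover.hom_ext 𝒰 _ _ fun i => ?_⟩
  · change pullback.fst (V a).ι (V c).ι ≫ k a = pullback.snd (V a).ι (V c).ι ≫ k c
    haveI : Flat (pullback.fst (V a).ι (V c).ι ≫ (V a).ι) := inferInstance
    refine Groth.Agent.S2299.result (pullback.fst (pullback.fst (V a).ι (V c).ι ≫ (V a).ι) (g ⁻¹ᵁ U).ι) f _ _ ?_ ?_
    · show (pullback.fst (V a).ι (V c).ι ≫ k a) ≫ f = (pullback.snd (V a).ι (V c).ι ≫ k c) ≫ f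
      rw [Category.assoc, Category.assoc, hk, hk, ← Category.assoc, pullback.condition, Category.assoc]
    · show pullback.fst _ _ ≫ pullback.fst (V a).ι (V c).ι ≫ k a = pullback.fst _ _ ≫ pullback.snd (V a).ι (V c).ι ≫ k c
      let m := pullback.fst (pullback.fst (V a).ι (V c).ι ≫ (V a).ι) (g ⁻¹ᵁ U).ι
      have cond := pullback.condition (f := pullback.fst (V a).ι (V c).ι ≫ (V a).ι) (g := (g ⁻¹ᵁ U).ι)

      have e1 : (m ≫ pullback.fst (V a).ι (V c).ι ≫ k a) ≫ f = pullback.snd _ _ ≫ (g ⁻¹ᵁ U).ι ≫ g := by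
        simp only [Category.assoc]
        rw [hk]
        exact (reassoc_of% cond) g
      have e2 : (m ≫ pullback.snd (V a).ι (V c).ι ≫ k c) ≫ f = pullback.snd _ _ ≫ (g ⁻¹ᵁ U).ι ≫ g := by
        simp only [Category.assoc]
        rw [hk, ← pullback.condition_assoc]
        exact (reassoc_of% cond) g
      have hin : ∀ (w : pullback (pullback.fst (V a).ι (V c).ι ≫ (V a).ι) (g ⁻¹ᵁ U).ι ⟶ Y),
          w ≫ f = pullback.snd _ _ ≫ (g ⁻¹ᵁ U).ι ≫ g → Set.range w ⊆ Set.range (f ⁻¹ᵁ U).ι := by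
        rintro w hw _ ⟨t, rfl⟩
        rw [Scheme.Opens.range_ι]
        show f (w t) ∈ U
        rw [← Scheme.Hom.comp_apply, hw, Scheme.Hom.comp_apply, Scheme.Hom.comp_apply]
        exact ((pullback.snd (pullback.fst (V a).ι (V c).ι ≫ (V a).ι) (g ⁻¹ᵁ U).ι) t).2
      rw [← IsOpenImmersion.lift_fac (f ⁻¹ᵁ U).ι _ (hin _ e1), ← IsOpenImmersion.lift_fac (f ⁻¹ᵁ U).ι _ (hin _ e2)]
      congr 1
      rw [← cancel_mono ((f ⁻¹ᵁ U).ι ≫ f), IsOpenImmersion.lift_fac_assoc, IsOpenImmersion.lift_fac_assoc, e1, e2]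
  · rw [Scheme.Cover.ι_glueMorphisms_assoc]
    exact hk i

/-- The generic point of a regular surface point is not a closed point of the centre. -/
theorem generic_mem (T : Set X) (hTc : IsClosed T) (t : X) [IsRegularLocalRing (X.presheaf.stalk t)]
    (hdim : ringKrullDim (X.presheaf.stalk t) = 2) (hcl : ∀ s ∈ T, IsClosed ({s} : Set X)) [IsDomain (X.presheaf.stalk t)] :
    X.fromSpecStalk t (⟨⊥, Ideal.bot_prime⟩ : PrimeSpectrum (X.presheaf.stalk t)) ∈
      (⟨Tᶜ, hTc.isOpen_compl⟩ : X.Opens) := by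
  intro hmem
  have hsp : X.fromSpecStalk t (⟨⊥, Ideal.bot_prime⟩ : PrimeSpectrum (X.presheaf.stalk t)) ⤳ t := by
    have h : X.fromSpecStalk t (⟨⊥, Ideal.bot_prime⟩ : PrimeSpectrum (X.presheaf.stalk t)) ∈
        Set.range (X.fromSpecStalk t) := ⟨_, rfl⟩
    rwa [Scheme.range_fromSpecStalk] at h
  have heq := (Set.mem_singleton_iff.1 (hsp.mem_closed (hcl _ hmem) rfl))
  have h0 := congrArg PrimeSpectrum.asIdeal ((X.fromSpecStalk t).isEmbedding.injective
    (heq.symm.trans (Scheme.fromSpecStalk_closedPoint).symm))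
  have hd := IsLocalRing.maximalIdeal_height_eq_ringKrullDim (R := X.presheaf.stalk t)
  rw [show maximalIdeal (X.presheaf.stalk t) = ⊥ from h0.symm, Ideal.height_bot, hdim] at hd
  exact absurd (WithBot.coe_eq_coe.1 (hd.trans (by rfl) : ((0 : ℕ∞) : WithBot ℕ∞) = ((2 : ℕ∞) : WithBot ℕ∞))) (by decide)

/-- The data to be made invertible at one point. -/
theorem exists_point_data [IsNoetherian X] (T : Set X) (hTc : IsClosed T)
    {Y : Scheme.{u}} (f : Y ⟶ X) [IsProper f] [IsIso (f ∣_ (⟨Tᶜ, hTc.isOpen_compl⟩ : X.Opens))]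
    (hcl : ∀ s ∈ T, IsClosed ({s} : Set X)) (t : X) (ht : t ∈ T) [IsRegularLocalRing (X.presheaf.stalk t)]
    (hdim : ringKrullDim (X.presheaf.stalk t) = 2) :
    ∃ (ι : Type u) (_ : Fintype ι) (num den : ι → X.presheaf.stalk t) (E : ι → X.IdealSheafData),
      (∀ i, ((E i).support : Set X) ⊆ {t} ∧ sI (E i) t = Ideal.span {num i, den i}) ∧
      ∀ (B : Type u) [CommRing B] [IsDomain B] [IsLocalRing B] (ψ : X.presheaf.stalk t →+* B), Function.Injective ψ →
        (∀ i, (Ideal.span {ψ (num i), ψ (den i)}).IsPrincipal) →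
        ∃ h : Spec (CommRingCat.of B) ⟶ pullback f (X.fromSpecStalk t),
          h ≫ pullback.snd f (X.fromSpecStalk t) = Spec.map (CommRingCat.ofHom ψ) := by
  haveI := (S2821.result (X.presheaf.stalk t)).1
  haveI := (S2821.result (X.presheaf.stalk t)).2
  obtain ⟨σ, hσ⟩ := exists_rational_point f ⟨Tᶜ, hTc.isOpen_compl⟩ t (generic_mem T hTc t hdim hcl)
  obtain ⟨P, hP, hP'⟩ := exists_pairs (A := X.presheaf.stalk t) (pullback.snd f (X.fromSpecStalk t)) σ hσ
  have hE : ∀ p : P, ∃ E : X.IdealSheafData, (E.support : Set X) ⊆ {t} ∧ sI E t = Ideal.span {p.1.1, p.1.2} :=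
    fun p => by
      obtain ⟨n, hn⟩ := pow_le_span_pair hdim (hP p.1 p.2).1 (hP p.1 p.2).2
      exact exists_extend (hcl t ht) _ hn
  choose E hE using hE
  exact ⟨P, inferInstance, fun p => p.1.1, fun p => p.1.2, E, hE,
    fun B _ _ _ ψ hψ h => hP' B ψ hψ fun p hp => h ⟨p, hp⟩⟩

theorem eff_of_prod {ι : Type*} [DecidableEq ι] {X' : Scheme.{u}} (g : X' ⟶ X) (s : Finset ι) (E : ι → X.IdealSheafData)
    (h : BlowUp.IsEffCartierIdeal ((∏ i ∈ s, E i).comap g)) (i : ι) (hi : i ∈ s) :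
    BlowUp.IsEffCartierIdeal ((E i).comap g) := by
  rw [← Finset.mul_prod_erase _ _ hi, ModPairLib.ideal_comap_mul] at h
  exact BlowUpX.isEffCartier_left_of_mul h

theorem eff_prod {ι : Type*} [DecidableEq ι] {X' : Scheme.{u}} (g : X' ⟶ X) (s : Finset ι) (E : ι → X.IdealSheafData)
    (h : ∀ i ∈ s, BlowUp.IsEffCartierIdeal ((E i).comap g)) : BlowUp.IsEffCartierIdeal ((∏ i ∈ s, E i).comap g) := by
  rw [comap_prod]
  exact Finset.prod_induction _ BlowUp.IsEffCartierIdeal (fun a b ha hb => ModPairLib.isEffCartier_mul ha hb)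
    (by rw [Scheme.IdealSheafData.one_eq_top]; exact BlowUpLib.isEffCartier_top X') h

/-- The complement of the centre pulls back to a scheme-theoretically dense open. -/
theorem dominant_preimage {X' : Scheme.{u}} (g : X' ⟶ X) (T : Set X) (hTf : T.Finite) (hTc : IsClosed T)
    (hcl : ∀ t ∈ T, IsClosed ({t} : Set X))
    (hcar : ∀ (t : X) (ht : t ∈ T), BlowUp.IsEffCartierIdeal ((pt (hcl t ht)).comap g)) :
    IsSchemeTheoreticallyDominant (g ⁻¹ᵁ (⟨Tᶜ, hTc.isOpen_compl⟩ : X.Opens)).ι := by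
  classical
  haveI : Fintype T := hTf.fintype
  let D : T → X.IdealSheafData := fun t => pt (hcl t.1 t.2)
  have hD : BlowUp.IsEffCartierIdeal ((∏ t : T, D t).comap g) := eff_prod g _ D fun t _ => hcar t.1 t.2
  haveI := ModPairLib.isSchemeTheoreticallyDominant_interior hD
  refine ModPairLib.isSchemeTheoreticallyDominant_mono (U := ModPair.interior ((∏ t : T, D t).comap g))
    fun z hz hzT => hz ?_
  rw [Scheme.IdealSheafData.support_comap]
  refine (mem_support_iff (∏ t : T, D t) (g z)).2 fun htop => ?_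
  rw [← Finset.mul_prod_erase _ D (Finset.mem_univ (⟨g z, hzT⟩ : T)), sI_mul] at htop
  have h2 : sI (pt (hcl (g z) hzT)) (g z) = ⊤ := top_unique (htop.ge.trans Ideal.mul_le_left)
  exact (mem_support_iff _ _).1 ((mem_support_pt _ _).2 rfl) h2

/-- Proper morphisms which are isomorphisms off regular surface points are dominated by point blow-ups. -/
theorem exists_domination [IsNoetherian X] (T : Set X) (hTf : T.Finite) (hTc : IsClosed T)
    (hT : ∀ x ∈ T, IsClosed ({x} : Set X) ∧ IsRegularLocalRing (X.presheaf.stalk x) ∧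
      ringKrullDim (X.presheaf.stalk x) = 2)
    {Y : Scheme.{u}} (f : Y ⟶ X) [IsProper f] (hf : IsIso (f ∣_ (⟨Tᶜ, hTc.isOpen_compl⟩ : X.Opens))) :
    ∃ (X' : Scheme.{u}) (g : X' ⟶ X), Models.IsContractionSeq g ∧
      IsIso (g ∣_ (⟨Tᶜ, hTc.isOpen_compl⟩ : X.Opens)) ∧ ∃ h : X' ⟶ Y, h ≫ f = g := by
  classical
  haveI := hf
  have hcl : ∀ t ∈ T, IsClosed ({t} : Set X) := fun t ht => (hT t ht).1
  have hdata : ∀ t : T, ∃ (ι : Type u) (_ : Fintype ι) (num den : ι → X.presheaf.stalk t.1) (E : ι → X.IdealSheafData),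
      (∀ i, ((E i).support : Set X) ⊆ {t.1} ∧ sI (E i) t.1 = Ideal.span {num i, den i}) ∧
      ∀ (B : Type u) [CommRing B] [IsDomain B] [IsLocalRing B] (ψ : X.presheaf.stalk t.1 →+* B), Function.Injective ψ →
        (∀ i, (Ideal.span {ψ (num i), ψ (den i)}).IsPrincipal) →
        ∃ h : Spec (CommRingCat.of B) ⟶ pullback f (X.fromSpecStalk t.1),
          h ≫ pullback.snd f (X.fromSpecStalk t.1) = Spec.map (CommRingCat.ofHom ψ) := fun t => by
    haveI := (hT t.1 t.2).2.1
    exact exists_point_data T hTc f hcl t.1 t.2 (hT t.1 t.2).2.2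
  choose ι hι num den E hE hext using hdata
  haveI : Fintype T := hTf.fintype
  let F : (t : T) × Option (ι t) → X.IdealSheafData := fun i =>
    match i.2 with
    | none => pt (hcl i.1.1 i.1.2)
    | some j => E i.1 j
  have hFs : ∀ i, ((F i).support : Set X) ⊆ T := by
    rintro ⟨t, _ | j⟩ z hz
    · exact ((mem_support_pt (hcl t.1 t.2) z).1 hz).symm ▸ t.2
    · exact (Set.mem_singleton_iff.1 ((hE t j).1 hz)).symm ▸ t.2
  let S : Finset ((t : T) × Option (ι t)) := Finset.univ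
  have hIs : ((∏ i ∈ S, F i).support : Set X) ⊆ T := support_prod_subset _ _ T fun i _ => hFs i
  obtain ⟨X', g, hseq, hiso, hcar, -, hreg⟩ :=
    exists_principalization' (∏ i ∈ S, F i) (hTf.subset hIs) (fun y hy => hT y (hIs hy))
  have hseq' : Models.IsContractionSeq g := by
    simpa using hseq X (Iso.refl X).hom (Models.IsContractionSeq.iso (Iso.refl X))
  haveI := isProper_of_seq hseq'
  haveI : IsLocallyNoetherian X' := LocallyOfFiniteType.isLocallyNoetherian g
  haveI : CompactSpace X' := QuasiCompact.compactSpace_of_compactSpace g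
  haveI : IsNoetherian X' := {}
  haveI := hiso
  haveI hgU : IsIso (g ∣_ (⟨Tᶜ, hTc.isOpen_compl⟩ : X.Opens)) :=
    isIso_restrict_mono g (U := (∏ i ∈ S, F i).support.compl) fun y hy h => hy (hIs h)
  have hpt : ∀ (t : X) (ht : t ∈ T), BlowUp.IsEffCartierIdeal ((pt (hcl t ht)).comap g) := fun t ht =>
    eff_of_prod g S F hcar ⟨⟨t, ht⟩, none⟩ (Finset.mem_univ _)
  refine ⟨X', g, hseq', hgU, ?_⟩
  haveI := dominant_preimage g T hTf hTc hcl hpt
  refine exists_glue f ⟨Tᶜ, hTc.isOpen_compl⟩ g fun x' => ?_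
  by_cases hx' : g x' ∈ T
  swap
  · refine ⟨g ⁻¹ᵁ ⟨Tᶜ, hTc.isOpen_compl⟩, (g ∣_ ⟨Tᶜ, hTc.isOpen_compl⟩) ≫
      inv (f ∣_ ⟨Tᶜ, hTc.isOpen_compl⟩) ≫ (f ⁻¹ᵁ ⟨Tᶜ, hTc.isOpen_compl⟩).ι, hx', ?_⟩
    rw [Category.assoc, Category.assoc, ← morphismRestrict_ι, IsIso.inv_hom_id_assoc, morphismRestrict_ι]
  haveI := (hT (g x') hx').2.1
  haveI := (S2821.result (X.presheaf.stalk (g x'))).1
  haveI := hreg x' inferInstance
  haveI := (S2821.result (X'.presheaf.stalk x')).1
  obtain ⟨y, hy, hyT⟩ := exists_generic g T hTf x'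
    (fun t => if h : t ∈ T then pt (hcl t h) else ⊤) fun t ht => by
      rw [dif_pos ht]; exact ⟨(mem_support_pt _ t).2 rfl, hpt t ht⟩
  have hprin : ∀ i, (Ideal.span {(g.stalkMap x').hom (num ⟨g x', hx'⟩ i), (g.stalkMap x').hom (den ⟨g x', hx'⟩ i)}).IsPrincipal :=
    fun i => by
      obtain ⟨γ, -, hγ⟩ := exists_gen (eff_of_prod g S F hcar ⟨⟨g x', hx'⟩, some i⟩ (Finset.mem_univ _)) x'
      change sI ((E ⟨g x', hx'⟩ i).comap g) x' = _ at hγ
      rw [sI_comap, (hE ⟨g x', hx'⟩ i).2, Ideal.map_span, Set.image_pair] at hγ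
      exact ⟨γ, hγ⟩
  obtain ⟨h, hh⟩ := hext ⟨g x', hx'⟩ (X'.presheaf.stalk x') (g.stalkMap x').hom
    (injective_stalkMap g ⟨Tᶜ, hTc.isOpen_compl⟩ x' y hy hyT) hprin
  exact extend_point f g x' h hh

end Groth.Agent.PointDom
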